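import Groth.Prelude.Def_AffAlg
import Mathlib.AlgebraicGeometry.AffineScheme
import Mathlib.Topology.Sheaves.SheafCondition.Sites
import Mathlib.Topology.Sheaves.Functors

/-!
# Morphisms into a scheme affine over the base are maps of direct image algebras
-/

set_option autoImplicit false
set_option backward.isDefEq.respectTransparency false
set_option linter.style.haveILetI false

universe u

open CategoryTheory CategoryTheory.Limits AlgebraicGeometry TopologicalSpace Opposite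

namespace GrothLib.AffAlg8

variable {X Y S : Scheme.{u}}

/-- Morphisms into an affine scheme with given global sections. -/
theorem exists_appTop_eq {T Z : Scheme.{u}} [IsAffine Z] (φ : Γ(Z, ⊤) ⟶ Γ(T, ⊤)) :
    ∃ k : T ⟶ Z, k.appTop = φ :=
  ⟨T.toSpecΓ ≫ Spec.map φ ≫ inv Z.toSpecΓ, by simp [Scheme.toSpecΓ_appTop]⟩

variable (f : X ⟶ S) (g : Y ⟶ S)

theorem algHom_app (h : Y ⟶ X) (w : h ≫ f = g) (U : S.Opens) :
    (AffAlg.algHom f g h w).app (op U) = h.appLE (f ⁻¹ᵁ U) (g ⁻¹ᵁ U) (by rw [← w]; rfl) := by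
  subst w
  simp [AffAlg.algHom, Scheme.Hom.app_eq_appLE]

variable [IsAffineHom f]

theorem hom_ext {h₁ h₂ : Y ⟶ X} (w₁ : h₁ ≫ f = g) (w₂ : h₂ ≫ f = g)
    (e : AffAlg.algHom f g h₁ w₁ = AffAlg.algHom f g h₂ w₂) : h₁ = h₂ := by
  let 𝒰 := Y.openCoverOfIsOpenCover (fun U : S.affineOpens => g ⁻¹ᵁ U.1) (by
    show (⨆ U : S.affineOpens, g ⁻¹ᵁ U.1) = ⊤
    rw [← Scheme.Hom.preimage_iSup, iSup_affineOpens_eq_top, Scheme.Hom.preimage_top])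
  refine Scheme.Cover.hom_ext 𝒰 _ _ fun U => ?_
  show (g ⁻¹ᵁ U.1).ι ≫ h₁ = (g ⁻¹ᵁ U.1).ι ≫ h₂
  haveI : IsAffine (f ⁻¹ᵁ U.1).toScheme := U.2.preimage f
  have e₁ : g ⁻¹ᵁ U.1 ≤ h₁ ⁻¹ᵁ (f ⁻¹ᵁ U.1) := by rw [← w₁]; rfl
  have e₂ : g ⁻¹ᵁ U.1 ≤ h₂ ⁻¹ᵁ (f ⁻¹ᵁ U.1) := by rw [← w₂]; rfl
  rw [← Scheme.Hom.resLE_comp_ι h₁ e₁, ← Scheme.Hom.resLE_comp_ι h₂ e₂]
  congr 1
  apply ext_of_isAffine
  have h := congr(($e).app (op U.1))
  rw [algHom_app, algHom_app] at h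
  simp only [Scheme.Hom.appTop, Scheme.Hom.resLE_app_top, h]

variable (ω : AffAlg.alg f ⟶ AffAlg.alg g)

theorem exists_local (U : S.affineOpens) :
    ∃ k : (g ⁻¹ᵁ U.1).toScheme ⟶ (f ⁻¹ᵁ U.1).toScheme,
      (f ⁻¹ᵁ U.1).topIso.inv ≫ k.appTop ≫ (g ⁻¹ᵁ U.1).topIso.hom = ω.app (op U.1) := by
  haveI : IsAffine (f ⁻¹ᵁ U.1).toScheme := U.2.preimage f
  obtain ⟨k, hk⟩ := exists_appTop_eq (T := (g ⁻¹ᵁ U.1).toScheme)
    ((f ⁻¹ᵁ U.1).topIso.hom ≫ ω.app (op U.1) ≫ (g ⁻¹ᵁ U.1).topIso.inv)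
  exact ⟨k, by rw [hk]; simp⟩

theorem local_res {U W : S.affineOpens} (hW : W.1 ≤ U.1)
    (k : (g ⁻¹ᵁ U.1).toScheme ⟶ (f ⁻¹ᵁ U.1).toScheme)
    (hk : (f ⁻¹ᵁ U.1).topIso.inv ≫ k.appTop ≫ (g ⁻¹ᵁ U.1).topIso.hom = ω.app (op U.1))
    (l : (g ⁻¹ᵁ W.1).toScheme ⟶ (f ⁻¹ᵁ W.1).toScheme)
    (hl : (f ⁻¹ᵁ W.1).topIso.inv ≫ l.appTop ≫ (g ⁻¹ᵁ W.1).topIso.hom = ω.app (op W.1)) :
    Y.homOfLE (g.preimage_mono hW) ≫ k = l ≫ X.homOfLE (f.preimage_mono hW) := by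
  haveI : IsAffine (f ⁻¹ᵁ U.1).toScheme := U.2.preimage f
  apply ext_of_isAffine
  rw [Iso.inv_comp_eq, ← Iso.eq_comp_inv] at hk hl
  rw [Scheme.Hom.comp_appTop, Scheme.Hom.comp_appTop, hk, hl]
  have hn : ω.app (op U.1) ≫ Y.presheaf.map (homOfLE (g.preimage_mono hW)).op =
      X.presheaf.map (homOfLE (f.preimage_mono hW)).op ≫ ω.app (op W.1) :=
    (ω.naturality (homOfLE hW).op).symm
  have hY : (g ⁻¹ᵁ U.1).topIso.inv ≫ (Y.homOfLE (g.preimage_mono hW)).appTop =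
      Y.presheaf.map (homOfLE (g.preimage_mono hW)).op ≫ (g ⁻¹ᵁ W.1).topIso.inv := by
    rw [Iso.inv_comp_eq]; simp [← Functor.map_comp]
  have hX : (X.homOfLE (f.preimage_mono hW)).appTop ≫ (f ⁻¹ᵁ W.1).topIso.hom =
      (f ⁻¹ᵁ U.1).topIso.hom ≫ X.presheaf.map (homOfLE (f.preimage_mono hW)).op := by
    simp [Scheme.homOfLE_appTop, ← Functor.map_comp]
  simp only [Category.assoc, hY, reassoc_of% hn]
  rw [reassoc_of% hX]

theorem exists_hom (hω : f.c ≫ ω = g.c) :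
    ∃ (h : Y ⟶ X) (w : h ≫ f = g), AffAlg.algHom f g h w = ω := by
  choose k hk using exists_local f g ω
  let 𝒰 := Y.openCoverOfIsOpenCover (fun U : S.affineOpens => g ⁻¹ᵁ U.1) (by
    show (⨆ U : S.affineOpens, g ⁻¹ᵁ U.1) = ⊤
    rw [← Scheme.Hom.preimage_iSup, iSup_affineOpens_eq_top, Scheme.Hom.preimage_top])
  have hkf : ∀ U : S.affineOpens, k U ≫ (f ⁻¹ᵁ U.1).ι ≫ f = (g ⁻¹ᵁ U.1).ι ≫ g := by
    intro U
    have hk' := hk U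
    rw [Iso.inv_comp_eq, ← Iso.eq_comp_inv] at hk'
    haveI : IsAffine U.1.toScheme := U.2
    rw [← morphismRestrict_ι, ← morphismRestrict_ι, ← Category.assoc]
    congr 1
    apply ext_of_isAffine
    rw [Scheme.Hom.comp_appTop, hk']
    have h0 : f.app U.1 ≫ ω.app (op U.1) = g.app U.1 := congr(($hω).app (op U.1))
    have hf : (f ∣_ U.1).appTop ≫ (f ⁻¹ᵁ U.1).topIso.hom = U.1.topIso.hom ≫ f.app U.1 := by
      simp [morphismRestrict_appLE, Scheme.Hom.app_eq_appLE, Scheme.Hom.appLE_map, Scheme.Hom.map_appLE]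
    simp only [Category.assoc]
    rw [reassoc_of% hf, reassoc_of% h0]
    simp [morphismRestrict_appLE, Scheme.Hom.app_eq_appLE, Scheme.Hom.appLE_map, Scheme.Hom.map_appLE]
  let m : ∀ U : S.affineOpens, (g ⁻¹ᵁ U.1).toScheme ⟶ X := fun U => k U ≫ (f ⁻¹ᵁ U.1).ι
  have hcomp : ∀ {U W : S.affineOpens} (hW : W.1 ≤ U.1),
      Y.homOfLE (g.preimage_mono hW) ≫ m U = m W := by
    intro U W hW
    show Y.homOfLE _ ≫ k U ≫ _ = k W ≫ _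
    rw [← Category.assoc, local_res f g ω hW (k U) (hk U) (k W) (hk W), Category.assoc, Scheme.homOfLE_ι]
  have hag : ∀ U V : S.affineOpens,
      pullback.fst (𝒰.f U) (𝒰.f V) ≫ m U = pullback.snd (𝒰.f U) (𝒰.f V) ≫ m V := by
    intro U V
    let P := Limits.pullback (𝒰.f U) (𝒰.f V)
    let q : P ⟶ Y := pullback.fst (𝒰.f U) (𝒰.f V) ≫ 𝒰.f U
    let R : {W : S.affineOpens // W.1 ≤ U.1 ⊓ V.1} → P.Opens := fun W => q ⁻¹ᵁ (g ⁻¹ᵁ W.1.1)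
    let 𝒱 := P.openCoverOfIsOpenCover R (by
      show (⨆ W, R W) = ⊤
      refine top_unique fun z _ => ?_
      have hU : g (q z) ∈ U.1 := (pullback.fst (𝒰.f U) (𝒰.f V) z).2
      have hV : g (q z) ∈ V.1 := by
        have e : q = pullback.snd (𝒰.f U) (𝒰.f V) ≫ 𝒰.f V := pullback.condition
        rw [e]
        exact (pullback.snd (𝒰.f U) (𝒰.f V) z).2
      obtain ⟨_, ⟨W, hWa, rfl⟩, hzW, hWle⟩ := S.isBasis_affineOpens.exists_subset_of_mem_open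
        (show g (q z) ∈ (U.1 ⊓ V.1 : S.Opens) from ⟨hU, hV⟩) (U.1 ⊓ V.1).2
      exact Opens.mem_iSup.2 ⟨⟨⟨W, hWa⟩, hWle⟩, hzW⟩)
    refine Scheme.Cover.hom_ext 𝒱 _ _ fun W => ?_
    show (R W).ι ≫ _ = (R W).ι ≫ _
    let t : (R W).toScheme ⟶ (g ⁻¹ᵁ W.1.1).toScheme := q.resLE _ _ le_rfl
    have h1 : (R W).ι ≫ pullback.fst (𝒰.f U) (𝒰.f V) = t ≫ Y.homOfLE (g.preimage_mono (le_inf_iff.1 W.2).1) := by
      rw [← cancel_mono (g ⁻¹ᵁ U.1).ι, Category.assoc, Category.assoc, Scheme.homOfLE_ι, Scheme.Hom.resLE_comp_ι]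
      rfl
    have h2 : (R W).ι ≫ pullback.snd (𝒰.f U) (𝒰.f V) = t ≫ Y.homOfLE (g.preimage_mono (le_inf_iff.1 W.2).2) := by
      rw [← cancel_mono (g ⁻¹ᵁ V.1).ι, Category.assoc, Category.assoc, Scheme.homOfLE_ι, Scheme.Hom.resLE_comp_ι]
      exact congrArg ((R W).ι ≫ ·) pullback.condition.symm
    rw [reassoc_of% h1, reassoc_of% h2, hcomp (le_inf_iff.1 W.2).1, hcomp (le_inf_iff.1 W.2).2]
  let h := 𝒰.glueMorphisms m hag
  have hh : ∀ U : S.affineOpens, (g ⁻¹ᵁ U.1).ι ≫ h = m U := fun U => 𝒰.ι_glueMorphisms m hag U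
  have w : h ≫ f = g := by
    refine Scheme.Cover.hom_ext 𝒰 _ _ fun U => ?_
    show (g ⁻¹ᵁ U.1).ι ≫ h ≫ f = (g ⁻¹ᵁ U.1).ι ≫ g
    rw [reassoc_of% hh U]
    exact hkf U
  refine ⟨h, w, ?_⟩
  let F' : TopCat.Sheaf CommRingCat.{u} S.carrier :=
    ⟨AffAlg.alg g, TopCat.Sheaf.pushforward_sheaf_of_sheaf _ Y.sheaf.2⟩
  refine TopCat.Sheaf.hom_ext (B := fun U : S.affineOpens => U.1) (AffAlg.alg f) F' ?_ fun U => ?_
  · rw [Subtype.range_coe_subtype]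
    exact S.isBasis_affineOpens
  · show (AffAlg.algHom f g h w).app (op U.1) = ω.app (op U.1)
    rw [algHom_app, ← hk U]
    have e : g ⁻¹ᵁ U.1 ≤ h ⁻¹ᵁ (f ⁻¹ᵁ U.1) := by rw [← w]; rfl
    have hres : h.resLE (f ⁻¹ᵁ U.1) (g ⁻¹ᵁ U.1) e = k U := by
      rw [← cancel_mono (f ⁻¹ᵁ U.1).ι, Scheme.Hom.resLE_comp_ι]
      exact hh U
    rw [← hres, Scheme.Hom.appTop, Scheme.Hom.resLE_app_top]
    simp

end GrothLib.AffAlg8
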